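import Groth.Agent.S0283
import Groth.Agent.S1186
import Groth.Agent.Lib.FEt.HenselianPair
import Groth.Agent.Lib.Ferrand.Spec
import Groth.Agent.Lib.Ferrand.Props
import Groth.Agent.Lib.Unram.EtaleMono
import Groth.Agent.H75.UH.Good

/-!
# Finite etale covers along elementary radicial extensions

Essential surjectivity of the restriction of finite etale covers along nil thickenings, along
injective radicial maps in characteristic `l` (Frobenius sandwich) and along extensions with a
conductor ideal (Milnor patching).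
-/

set_option autoImplicit false
set_option backward.isDefEq.respectTransparency false

universe u

open CategoryTheory CategoryTheory.Limits AlgebraicGeometry

namespace Groth.Agent.H80.UnivHomeo

/-- Finite etale covers descend along `f`. -/
def ES {X Y : Scheme.{u}} (f : X ⟶ Y) : Prop := (FEt.restrict f).EssSurj

/-- Finite etale algebras descend along `φ`. -/
abbrev ESR {R R' : Type u} [CommRing R] [CommRing R'] (φ : R →+* R') : Prop :=
  ES (Spec.map (CommRingCat.ofHom φ))

theorem nonempty_iso_of_isPullback {X Y : Scheme.{u}} (f : X ⟶ Y) (W : FEt.Cat X) (Z : FEt.Cat Y)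
    (j : W.left ⟶ Z.left) (h : IsPullback j W.hom Z.hom f) :
    Nonempty ((FEt.restrict f).obj Z ≅ W) :=
  ⟨MorphismProperty.Over.isoMk h.isoPullback.symm h.isoPullback_inv_snd⟩

/-- The composite of two restrictions. -/
noncomputable def restrictComp {X Y Z : Scheme.{u}} (f : X ⟶ Y) (g : Y ⟶ Z) :
    FEt.restrict (f ≫ g) ≅ FEt.restrict g ⋙ FEt.restrict f :=
  MorphismProperty.Over.pullbackComp f g

theorem ES.comp {X Y Z : Scheme.{u}} {f : X ⟶ Y} {g : Y ⟶ Z} (hf : ES f) (hg : ES g) :
    ES (f ≫ g) := by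
  refine ⟨fun W => ?_⟩
  obtain ⟨V, ⟨e⟩⟩ := hf.mem_essImage W
  obtain ⟨U, ⟨e'⟩⟩ := hg.mem_essImage V
  exact ⟨U, ⟨(restrictComp f g).app U ≪≫ (FEt.restrict f).mapIso e' ≪≫ e⟩⟩

/-- Cancelling a universal homeomorphism on the left. -/
theorem ES.of_comp {X Y Z : Scheme.{u}} (f : X ⟶ Y) {g : Y ⟶ Z} [IsIntegralHom f]
    [UniversallyInjective f] [Surjective f] (h : ES (f ≫ g)) : ES g := by
  have := (Groth.Agent.S0283.result f).1
  have := (Groth.Agent.S0283.result f).2
  refine ⟨fun V => ?_⟩
  obtain ⟨U, ⟨e⟩⟩ := h.mem_essImage ((FEt.restrict f).obj V)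
  exact ⟨U, ⟨(FEt.restrict f).preimageIso (((restrictComp f g).app U).symm ≪≫ e)⟩⟩

theorem ES.of_isIso {X Y : Scheme.{u}} (f : X ⟶ Y) [IsIso f] : ES f := by
  refine ⟨fun W => ?_⟩
  let Z : FEt.Cat Y := MorphismProperty.Over.mk ⊤ (W.hom ≫ f)
    ((MorphismProperty.cancel_right_of_respectsIso FEt.prop.{u} W.hom f).mpr W.prop)
  exact ⟨Z, nonempty_iso_of_isPullback f W Z (𝟙 _) (IsPullback.of_horiz_isIso ⟨Category.id_comp _⟩)⟩

theorem ESR.comp {R S T : Type u} [CommRing R] [CommRing S] [CommRing T] {φ : R →+* S}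
    {ψ : S →+* T} (hφ : ESR φ) (hψ : ESR ψ) : ESR (ψ.comp φ) := by
  change ES _
  rw [CommRingCat.ofHom_comp, Spec.map_comp]
  exact ES.comp hψ hφ

theorem univHomeo_specMap {R S : Type u} [CommRing R] [CommRing S] (φ : R →+* S)
    (h1 : φ.IsIntegral) (h2 : H75.UH.Radicial φ) (h3 : RingHom.ker φ ≤ nilradical R) :
    IsIntegralHom (Spec.map (CommRingCat.ofHom φ)) ∧
      UniversallyInjective (Spec.map (CommRingCat.ofHom φ)) ∧
      Surjective (Spec.map (CommRingCat.ofHom φ)) :=
  ⟨IsIntegralHom.SpecMap_iff.mpr h1, h2.universallyInjective,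
    (H75.UH.surjective_iff_of_isIntegral h1).mpr h3⟩

theorem radicial_of_surjective {R S : Type u} [CommRing R] [CommRing S] {φ : R →+* S}
    (h : Function.Surjective φ) : H75.UH.Radicial φ := fun p hp b => by
  obtain ⟨a, rfl⟩ := h b
  exact Or.inl (H75.UH.ures_of_range (hp := hp) a)

theorem ESR.of_comp {R S T : Type u} [CommRing R] [CommRing S] [CommRing T] {φ : R →+* S}
    {ψ : S →+* T} (h1 : ψ.IsIntegral) (h2 : H75.UH.Radicial ψ) (h3 : RingHom.ker ψ ≤ nilradical S)
    (h : ESR (ψ.comp φ)) : ESR φ := by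
  obtain ⟨_, _, _⟩ := univHomeo_specMap ψ h1 h2 h3
  refine ES.of_comp (Spec.map (CommRingCat.ofHom ψ)) ?_
  rwa [← Spec.map_comp, ← CommRingCat.ofHom_comp]

theorem ESR.of_bijective {R S : Type u} [CommRing R] [CommRing S] {φ : R →+* S}
    (h : Function.Bijective φ) : ESR φ := by
  have : IsIso (CommRingCat.ofHom φ) := (ConcreteCategory.isIso_iff_bijective _).mpr h
  exact ES.of_isIso _

/-- Nil thickenings. -/
theorem ESR.of_surjective {R S : Type u} [CommRing R] [CommRing S] {φ : R →+* S}
    (hs : Function.Surjective φ) (hk : RingHom.ker φ ≤ nilradical R) : ESR φ := by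
  have := Groth.Agent.Lib.Henselian.Basic.henselianRing_of_nil
    (I := RingHom.ker φ) fun x hx => mem_nilradical.mp (hk hx)
  have h : ESR (Ideal.Quotient.mk (RingHom.ker φ)) :=
    Groth.Agent.Lib.FEt.HenselianPair.essSurj (RingHom.ker φ)
  have h' := h.comp (ESR.of_bijective
    (φ := (RingHom.quotientKerEquivOfSurjective hs).toRingHom) (RingEquiv.bijective _))
  convert h'
  ext x
  rfl

/-- A map which becomes surjective modulo a nil ideal. -/
theorem ESR.of_nil {R S : Type u} [CommRing R] [CommRing S] {φ : R →+* S}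
    (hk : RingHom.ker φ ≤ nilradical R) (N : Ideal S) (hN : N ≤ nilradical S)
    (hs : ∀ y : S, ∃ x : R, y - φ x ∈ N) : ESR φ := by
  refine ESR.of_comp (ψ := Ideal.Quotient.mk N)
    (RingHom.IsIntegral.of_finite (RingHom.Finite.of_surjective _ Ideal.Quotient.mk_surjective))
    (radicial_of_surjective Ideal.Quotient.mk_surjective) (by rwa [Ideal.mk_ker])
    (ESR.of_surjective ?_ ?_)
  · intro y
    obtain ⟨y, rfl⟩ := Ideal.Quotient.mk_surjective y
    obtain ⟨x, hx⟩ := hs y
    exact ⟨x, (Ideal.Quotient.eq.mpr hx).symm⟩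
  · intro x hx
    rw [RingHom.mem_ker, RingHom.comp_apply, Ideal.Quotient.eq_zero_iff_mem] at hx
    obtain ⟨n, hn⟩ := mem_nilradical.mp (hN hx)
    obtain ⟨m, hm⟩ := mem_nilradical.mp (hk (show x ^ n ∈ RingHom.ker φ by
      rw [RingHom.mem_ker, map_pow]; exact hn))
    exact mem_nilradical.mpr ⟨n * m, by rw [pow_mul]; exact hm⟩

section Frobenius

variable (l : ℕ) [hl : Fact l.Prime]

/-- The `l`-th power map of a ring with `l = 0`. -/
def powHom (R : Type u) [CommRing R] (h : (l : R) = 0) : R →+* R where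
  toFun x := x ^ l
  map_one' := one_pow l
  map_zero' := zero_pow hl.out.ne_zero
  map_mul' x y := mul_pow x y l
  map_add' x y := by
    obtain ⟨r, hr⟩ := exists_add_pow_prime_eq hl.out x y
    rw [hr, h]; ring

theorem powHom_apply {R : Type u} [CommRing R] (h : (l : R) = 0) (x : R) :
    powHom l R h x = x ^ l := rfl

theorem powHom_univHomeo (R : Type u) [CommRing R] (h : (l : R) = 0) :
    (powHom l R h).IsIntegral ∧ H75.UH.Radicial (powHom l R h) ∧
      RingHom.ker (powHom l R h) ≤ nilradical R := by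
  refine ⟨fun x => ?_, fun p hp b => Or.inr ⟨l, hl.out, ?_, 1, ?_⟩, fun x hx => ?_⟩
  · refine ⟨Polynomial.X ^ l - Polynomial.C x, Polynomial.monic_X_pow_sub_C x hl.out.ne_zero, ?_⟩
    simp [powHom_apply]
  · rw [h]; exact zero_mem _
  · rw [pow_one]
    exact H75.UH.ures_of_range (hp := hp) b
  · exact mem_nilradical.mpr ⟨l, hx⟩

/-- Pulling back an etale cover along the absolute Frobenius gives it back. -/
theorem exists_frob_iso {R : Type u} [CommRing R] (h : (l : R) = 0)
    (C : FEt.Cat (Spec (CommRingCat.of R))) :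
    Nonempty ((FEt.restrict (Spec.map (CommRingCat.ofHom (powHom l R h)))).obj C ≅ C) := by
  let c : C.left ⟶ Spec (CommRingCat.of R) := C.hom
  have : IsFinite c := C.prop.1
  have : Etale c := C.prop.2
  have : IsAffine C.left := isAffine_of_isAffineHom c
  let ψ : R →+* Γ(C.left, ⊤) := ((Scheme.ΓSpecIso (CommRingCat.of R)).inv ≫ c.appTop).hom
  have hfac : c = C.left.isoSpec.hom ≫ Spec.map (CommRingCat.ofHom ψ) := by
    rw [Scheme.isoSpec_hom, CommRingCat.ofHom_hom, Spec.map_comp,
      ← Scheme.toSpecΓ_naturality_assoc, ← SpecMap_ΓSpecIso_hom, ← Spec.map_comp,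
      Iso.inv_hom_id, Spec.map_id]
    exact (Category.comp_id c).symm
  have h' : (l : Γ(C.left, ⊤)) = 0 := by rw [← map_natCast ψ, h, map_zero]
  let g := Spec.map (CommRingCat.ofHom (powHom l R h))
  let F : C.left ⟶ C.left :=
    C.left.isoSpec.hom ≫ Spec.map (CommRingCat.ofHom (powHom l _ h')) ≫ C.left.isoSpec.inv
  have hF : F ≫ c = c ≫ g := by
    rw [hfac]
    simp only [F, g, Category.assoc, Iso.inv_hom_id_assoc]
    rw [← Spec.map_comp, ← Spec.map_comp, ← CommRingCat.ofHom_comp, ← CommRingCat.ofHom_comp]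
    congr 3
    ext x
    exact (map_pow ψ x l).symm
  obtain ⟨i1, i2, i3⟩ := univHomeo_specMap _ (powHom_univHomeo l R h).1
    (powHom_univHomeo l R h).2.1 (powHom_univHomeo l R h).2.2
  obtain ⟨j1, j2, j3⟩ := univHomeo_specMap _ (powHom_univHomeo l _ h').1
    (powHom_univHomeo l _ h').2.1 (powHom_univHomeo l _ h').2.2
  have : UniversallyInjective F :=
    MorphismProperty.comp_mem @UniversallyInjective _ _ inferInstance
      (MorphismProperty.comp_mem @UniversallyInjective _ _ j2 inferInstance)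
  have : Surjective F := inferInstanceAs (Surjective (_ ≫ _ ≫ _))
  let u : C.left ⟶ pullback c g := pullback.lift F c hF
  have hu1 : u ≫ pullback.fst c g = F := pullback.lift_fst _ _ _
  have hu2 : u ≫ pullback.snd c g = c := pullback.lift_snd _ _ _
  have : Etale (u ≫ pullback.snd c g) := by rw [hu2]; infer_instance
  have : Etale u := Etale.of_comp u (pullback.snd c g)
  have : UniversallyInjective (u ≫ pullback.fst c g) := by rw [hu1]; infer_instance
  have hu : UniversallyInjective u := by
    have h1 : UniversallyInjective F → ∀ (K : Type u) [Field K],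
        Function.Injective (fun t : Spec (CommRingCat.of K) ⟶ C.left => t ≫ F) :=
      ((tfae_universallyInjective F).out 0 1).mp
    have h2 : (∀ (K : Type u) [Field K],
        Function.Injective (fun t : Spec (CommRingCat.of K) ⟶ C.left => t ≫ u)) →
        UniversallyInjective u :=
      ((tfae_universallyInjective u).out 1 0).mp
    refine h2 fun K hK a b hab => @h1 inferInstance K hK a b ?_
    change a ≫ F = b ≫ F
    rw [← hu1, ← Category.assoc, ← Category.assoc]
    exact congrArg (· ≫ pullback.fst c g) hab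
  have : UniversallyInjective (pullback.fst c g) := MorphismProperty.pullback_fst _ _ i2
  have : Surjective u := ⟨fun z => by
    obtain ⟨w, hw⟩ := F.surjective ((pullback.fst c g).base z)
    refine ⟨w, (pullback.fst c g).injective ?_⟩
    rw [← Scheme.Hom.comp_apply, hu1]
    exact hw⟩
  have : Surjective (pullback.diagonal u) := (UniversallyInjective.iff_diagonal u).mp hu
  have : IsOpenImmersion u := Groth.Agent.Lib.Unram.EtaleMono.isOpenImmersion_of_surjective_diagonal u
  have : IsIso u := (isIso_iff_isOpenImmersion_and_surjective u).mpr ⟨inferInstance, inferInstance⟩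
  exact ⟨(MorphismProperty.Over.isoMk (asIso u) hu2).symm⟩

/-- Injective maps of rings with `l = 0` all whose `l`-th powers come from the base. -/
theorem esr_frobenius_of_eq_zero {R S : Type u} [CommRing R] [CommRing S] (i : R →+* S)
    (hi : Function.Injective i) (h : (l : R) = 0) (hpow : ∀ y : S, ∃ x : R, i x = y ^ l) :
    ESR i := by
  choose F hF using hpow
  have h' : (l : S) = 0 := by rw [← map_natCast i, h, map_zero]
  let Φ : S →+* R :=
    { toFun := F
      map_one' := hi (by rw [hF, map_one, one_pow])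
      map_zero' := hi (by rw [hF, map_zero, zero_pow hl.out.ne_zero])
      map_mul' := fun x y => hi (by rw [hF, map_mul, hF, hF, mul_pow])
      map_add' := fun x y => hi (by
        rw [hF, map_add, hF, hF]
        exact map_add (powHom l S h') x y) }
  have hΦ : i.comp Φ = powHom l S h' := RingHom.ext fun y => hF y
  refine ⟨fun C => ?_⟩
  let Z := (FEt.restrict (Spec.map (CommRingCat.ofHom Φ))).obj C
  obtain ⟨e⟩ := exists_frob_iso l h' C
  refine ⟨Z, ⟨((restrictComp _ _).app C).symm ≪≫ eqToIso ?_ ≪≫ e⟩⟩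
  rw [← Spec.map_comp, ← CommRingCat.ofHom_comp, hΦ]

/-- Radicial maps modulo `l`. -/
theorem ESR.of_frobenius {R S : Type u} [CommRing R] [CommRing S] {φ : R →+* S}
    (hk : RingHom.ker φ ≤ nilradical R) (hlR : IsNilpotent (l : R))
    (hpow : ∀ y : S, ∃ x : R, IsNilpotent (y ^ l - φ x)) : ESR φ := by
  let π := Ideal.Quotient.mk (nilradical S)
  let i : R ⧸ RingHom.ker (π.comp φ) →+* S ⧸ nilradical S := RingHom.kerLift (π.comp φ)
  have hker : RingHom.ker (π.comp φ) ≤ nilradical R := fun x hx => by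
    rw [RingHom.mem_ker, RingHom.comp_apply, Ideal.Quotient.eq_zero_iff_mem] at hx
    obtain ⟨n, hn⟩ := mem_nilradical.mp hx
    obtain ⟨m, hm⟩ := mem_nilradical.mp (hk (show x ^ n ∈ RingHom.ker φ by
      rw [RingHom.mem_ker, map_pow]; exact hn))
    exact mem_nilradical.mpr ⟨n * m, by rw [pow_mul]; exact hm⟩
  have hl0 : (l : R ⧸ RingHom.ker (π.comp φ)) = 0 := by
    rw [← map_natCast (Ideal.Quotient.mk _), Ideal.Quotient.eq_zero_iff_mem, RingHom.mem_ker,
      RingHom.comp_apply, Ideal.Quotient.eq_zero_iff_mem]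
    exact mem_nilradical.mpr (hlR.map φ)
  have hi : ESR i := esr_frobenius_of_eq_zero l i (RingHom.kerLift_injective _) hl0 fun y => by
    obtain ⟨y, rfl⟩ := Ideal.Quotient.mk_surjective y
    obtain ⟨x, hx⟩ := hpow y
    refine ⟨Ideal.Quotient.mk _ x, ?_⟩
    change π (φ x) = _
    rw [← map_pow]
    exact (Ideal.Quotient.eq.mpr (mem_nilradical.mpr hx)).symm
  have h1 : ESR (π.comp φ) := by
    have := (ESR.of_surjective (φ := Ideal.Quotient.mk (RingHom.ker (π.comp φ)))
      Ideal.Quotient.mk_surjective (by rwa [Ideal.mk_ker])).comp hi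
    convert this using 2
    exact RingHom.ext fun x => rfl
  exact ESR.of_comp (ψ := π)
    (RingHom.IsIntegral.of_finite (RingHom.Finite.of_surjective _ Ideal.Quotient.mk_surjective))
    (radicial_of_surjective Ideal.Quotient.mk_surjective) (by rw [Ideal.mk_ker]) h1

end Frobenius

/-- Patching along a conductor ideal. -/
theorem ESR.of_conductor {S T : Type u} [CommRing S] [CommRing T] (φ : S →+* T)
    (hinj : Function.Injective φ) (hint : φ.IsIntegral) (I : Ideal T) (hI : ∀ t ∈ I, ∃ s, φ s = t)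
    (hES : ESR (Ideal.quotientMap I φ le_rfl)) : ESR φ := by
  let J := I.comap φ
  let r : CommRingCat.of S ⟶ CommRingCat.of (S ⧸ J) := CommRingCat.ofHom (Ideal.Quotient.mk J)
  let s : CommRingCat.of S ⟶ CommRingCat.of T := CommRingCat.ofHom φ
  let q : CommRingCat.of (S ⧸ J) ⟶ CommRingCat.of (T ⧸ I) :=
    CommRingCat.ofHom (Ideal.quotientMap I φ le_rfl)
  let p : CommRingCat.of T ⟶ CommRingCat.of (T ⧸ I) := CommRingCat.ofHom (Ideal.Quotient.mk I)
  have hw : r ≫ q = s ≫ p := rfl
  have hsq : Groth.Agent.Lib.Ferrand.IsSq r.hom s.hom q.hom p.hom :=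
    { comm := fun x => rfl
      surj := Ideal.Quotient.mk_surjective
      ext := fun x y _ h => hinj h
      lift := fun b a hba => by
        obtain ⟨b, rfl⟩ := Ideal.Quotient.mk_surjective b
        have hmem : a - φ b ∈ I := Ideal.Quotient.eq.mp (show Ideal.Quotient.mk I a = Ideal.Quotient.mk I (φ b) from hba.symm)
        obtain ⟨t, ht⟩ := hI _ hmem
        refine ⟨b + t, ?_, ?_⟩
        · change Ideal.Quotient.mk J (b + t) = Ideal.Quotient.mk J b
          rw [Ideal.Quotient.eq, add_sub_cancel_left, Ideal.mem_comap, ht]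
          exact hmem
        · change φ (b + t) = a
          rw [map_add, ht, add_sub_cancel] }
  have hA := Groth.Agent.Lib.Ferrand.affSq_Spec hw hsq
  have : IsClosedImmersion (Spec.map p) :=
    IsClosedImmersion.spec_of_surjective _ Ideal.Quotient.mk_surjective
  have : IsIntegralHom (Spec.map q) := by
    refine IsIntegralHom.SpecMap_iff.mpr fun y => ?_
    obtain ⟨y, rfl⟩ := Ideal.Quotient.mk_surjective y
    obtain ⟨P, hP, hPy⟩ := hint y
    refine ⟨P.map (Ideal.Quotient.mk J), hP.map _, ?_⟩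
    rw [Polynomial.eval₂_map]
    exact (Polynomial.hom_eval₂ P φ (Ideal.Quotient.mk I) y).symm.trans (by rw [hPy, map_zero])
  refine ⟨fun W => ?_⟩
  obtain ⟨V, ⟨e⟩⟩ := hES.mem_essImage ((FEt.restrict (Spec.map p)).obj W)
  obtain ⟨Z, ⟨e'⟩, -⟩ := Groth.Agent.S1186.result (Spec.map p) (Spec.map q)
    (fun y => ⟨⊤, isAffineOpen_top _, fun z _ => trivial⟩) (Spec.map s) (Spec.map r) hA.isPushout
    W V e.symm
  exact ⟨Z, ⟨e'⟩⟩

end Groth.Agent.H80.UnivHomeo
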