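import Groth.Agent.H80.UnivHomeo.Ring
import Groth.Agent.S0076
import Mathlib.AlgebraicGeometry.Sites.SmallAffineZariski

/-!
# Finite etale covers descend along universal homeomorphisms
-/

set_option autoImplicit false
set_option backward.isDefEq.respectTransparency false

universe u

open CategoryTheory CategoryTheory.Limits AlgebraicGeometry

namespace Groth.Agent.H80.UnivHomeo

open Groth.Agent.H75.UH

/-- The affine case. -/
theorem es_of_isAffine {X Y : Scheme.{u}} [IsAffine X] [IsAffine Y] (f : X ⟶ Y) [IsIntegralHom f]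
    [UniversallyInjective f] [Surjective f] : ES f := by
  have hf : f = X.isoSpec.hom ≫ Spec.map f.appTop ≫ Y.isoSpec.inv := by
    rw [Scheme.isoSpec_hom_naturality_assoc, Iso.hom_inv_id, Category.comp_id]
  have hg : Spec.map f.appTop = X.isoSpec.inv ≫ f ≫ Y.isoSpec.hom := by
    rw [← Scheme.isoSpec_hom_naturality, Iso.inv_hom_id_assoc]
  have i1 : IsIntegralHom (Spec.map f.appTop) := by rw [hg]; infer_instance
  have i2 : UniversallyInjective (Spec.map f.appTop) := by
    rw [hg]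
    exact MorphismProperty.comp_mem @UniversallyInjective _ _ inferInstance
      (MorphismProperty.comp_mem @UniversallyInjective _ _ ‹_› inferInstance)
  have i3 : Surjective (Spec.map f.appTop) := by rw [hg]; infer_instance
  let : Algebra Γ(Y, ⊤) Γ(X, ⊤) := f.appTop.hom.toAlgebra
  have hint : f.appTop.hom.IsIntegral := IsIntegralHom.SpecMap_iff.mp i1
  have h : ES (Spec.map f.appTop) := esr_of_univHomeo hint
    (radicial_of_universallyInjective f.appTop.hom i2) ((surjective_iff_of_isIntegral hint).mp i3)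
  rw [hf]
  exact (ES.of_isIso X.isoSpec.hom).comp (h.comp (ES.of_isIso _))

/-- Restrictions to nested opens form a cartesian square. -/
theorem isPullback_homOfLE {X Y : Scheme.{u}} (f : X ⟶ Y) {V O : Y.Opens} (h : V ≤ O) :
    IsPullback (X.homOfLE (f.preimage_mono h)) (f ∣_ V) (f ∣_ O) (Y.homOfLE h) := by
  refine IsPullback.of_right ?_ ?_ (isPullback_morphismRestrict f O).flip
  · rw [Scheme.homOfLE_ι, Scheme.homOfLE_ι]
    exact (isPullback_morphismRestrict f V).flip
  · rw [← cancel_mono O.ι]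
    simp

theorem trans_pullback₁ {Y W : Scheme.{u}} (q : W ⟶ Y) {U V : Y.AffineZariskiSite} (i : U ⟶ V) :
    (pullbackRestrictIsoRestrict q U.1).inv ≫
      Scheme.Cover.trans ((Scheme.AffineZariskiSite.directedCover Y).pullback₁ q) i ≫
      (pullbackRestrictIsoRestrict q V.1).hom =
        W.homOfLE (q.preimage_mono (Scheme.AffineZariskiSite.toOpens_mono i.le)) := by
  rw [← cancel_mono (Scheme.Opens.ι _)]
  simp +instances [Scheme.Cover.trans, Scheme.Cover.locallyDirectedPullbackCover]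

/-- Gluing morphisms given on the preimages of the affine opens. -/
theorem exists_glue_hom {Y W : Scheme.{u}} (q : W ⟶ Y) (T : Scheme.{u})
    (k : ∀ U : Y.AffineZariskiSite, (q ⁻¹ᵁ U.1 : Scheme.{u}) ⟶ T)
    (hk : ∀ {U V : Y.AffineZariskiSite} (i : U ⟶ V),
      W.homOfLE (q.preimage_mono (Scheme.AffineZariskiSite.toOpens_mono i.le)) ≫ k V = k U) :
    ∃ j : W ⟶ T, ∀ U, (q ⁻¹ᵁ U.1).ι ≫ j = k U := by
  refine ⟨Scheme.OpenCover.glueMorphismsOfLocallyDirected
    ((Scheme.AffineZariskiSite.directedCover Y).pullback₁ q)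
    (fun U => (pullbackRestrictIsoRestrict q _).hom ≫ k U)
    fun {U V : Y.AffineZariskiSite} i => ?_, fun U => ?_⟩
  · rw [← Iso.inv_comp_eq]
    have h := congrArg (fun t => t ≫ k V) (trans_pullback₁ q i)
    simp only [Category.assoc] at h
    exact h.trans (hk i)
  · rw [← cancel_epi (pullbackRestrictIsoRestrict q U.1).hom,
      pullbackRestrictIsoRestrict_hom_ι_assoc]
    generalize_proofs _ _ _ _ H
    exact Scheme.OpenCover.map_glueMorphismsOfLocallyDirected _ _ H U

theorem isPullback_of_pieces {X Y W Z : Scheme.{u}} (f : X ⟶ Y) (w : W ⟶ X) (g : Z ⟶ Y) (j : W ⟶ Z)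
    {T : Y.AffineZariskiSite → Scheme.{u}}
    (jU : ∀ U : Y.AffineZariskiSite, (w ⁻¹ᵁ (f ⁻¹ᵁ U.1) : Scheme.{u}) ⟶ T U)
    (zU : ∀ U : Y.AffineZariskiSite, T U ⟶ (U.1 : Scheme.{u}))
    (ιU : ∀ U : Y.AffineZariskiSite, T U ⟶ Z)
    (hpb : ∀ U, IsPullback (jU U) (w ∣_ (f ⁻¹ᵁ U.1)) (zU U) (f ∣_ U.1))
    (hι : ∀ U, IsPullback (zU U) (ιU U) U.1.ι g)
    (hj : ∀ U, (w ⁻¹ᵁ (f ⁻¹ᵁ U.1)).ι ≫ j = jU U ≫ ιU U) : IsPullback w j f g := by
  refine Scheme.isPullback_of_openCover w j f g
    (X.openCoverOfIsOpenCover (fun U : Y.AffineZariskiSite => f ⁻¹ᵁ U.1)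
      (TopologicalSpace.IsOpenCover.comap (iSup_affineOpens_eq_top Y) f.base.1)) fun U => ?_
  let e : (w ⁻¹ᵁ (f ⁻¹ᵁ U.1) : Scheme.{u}) ≅ pullback w (f ⁻¹ᵁ U.1).ι :=
    (pullbackRestrictIsoRestrict w _).symm
  have h1 : w ∣_ (f ⁻¹ᵁ U.1) = e.hom ≫ pullback.snd w (f ⁻¹ᵁ U.1).ι := rfl
  have h2 : jU U ≫ ιU U = e.hom ≫ pullback.fst w (f ⁻¹ᵁ U.1).ι ≫ j := by
    rw [← hj U, ← pullbackRestrictIsoRestrict_inv_fst w (f ⁻¹ᵁ U.1), Category.assoc]
    rfl
  refine ((hpb U).flip.paste_vert (hι U)).of_iso e (Iso.refl _) (Iso.refl _)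
    (Iso.refl _) ?_ ?_ ?_ (by simp)
  · simp only [Iso.refl_hom, Category.comp_id]
    exact h1
  · simp only [Iso.refl_hom, Category.comp_id]
    exact h2
  · simp only [Iso.refl_hom, Category.comp_id, Category.id_comp]
    exact morphismRestrict_ι f U.1

section Global

variable {X Y W : Scheme.{u}} (f : X ⟶ Y) (w : W ⟶ X)

/-- A descent of the cover over an open. -/
structure Lift (O : Y.Opens) where
  /-- The cover. -/
  Z : Scheme.{u}
  /-- The structure map. -/
  z : Z ⟶ (O : Scheme.{u})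
  /-- The projection. -/
  j : (w ⁻¹ᵁ (f ⁻¹ᵁ O) : Scheme.{u}) ⟶ Z
  prop : FEt.prop.{u} z
  pb : IsPullback j (w ∣_ (f ⁻¹ᵁ O)) z (f ∣_ O)

theorem univHomeo_restrict [IsIntegralHom f] [UniversallyInjective f] [Surjective f] (O : Y.Opens) :
    IsIntegralHom (f ∣_ O) ∧ UniversallyInjective (f ∣_ O) ∧ Surjective (f ∣_ O) :=
  ⟨IsZariskiLocalAtTarget.restrict (P := @IsIntegralHom) inferInstance O,
    IsZariskiLocalAtTarget.restrict (P := @UniversallyInjective) inferInstance O,
    IsZariskiLocalAtTarget.restrict (P := @Surjective) inferInstance O⟩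

variable [IsIntegralHom f] [UniversallyInjective f] [Surjective f]

theorem exists_lift (hw : FEt.prop.{u} w) {O : Y.Opens} (hO : IsAffineOpen O) :
    Nonempty (Lift f w O) := by
  obtain ⟨_, _, _⟩ := univHomeo_restrict f O
  have : IsAffine (O : Scheme.{u}) := hO
  have : IsAffine ((f ⁻¹ᵁ O : X.Opens) : Scheme.{u}) := hO.preimage f
  have : IsFinite w := hw.1
  have : Etale w := hw.2
  have : IsZariskiLocalAtTarget (@Etale : MorphismProperty Scheme.{u}) :=
    HasRingHomProperty.instIsZariskiLocalAtTarget @Etale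
  let WO : FEt.Cat ((f ⁻¹ᵁ O : X.Opens) : Scheme.{u}) := MorphismProperty.Over.mk ⊤
    (w ∣_ (f ⁻¹ᵁ O)) ⟨IsZariskiLocalAtTarget.restrict (P := @IsFinite) inferInstance _,
      IsZariskiLocalAtTarget.restrict (P := @Etale) inferInstance _⟩
  obtain ⟨Z, ⟨e⟩⟩ := (es_of_isAffine (f ∣_ O)).mem_essImage WO
  let el : ((FEt.restrict (f ∣_ O)).obj Z).left ≅ WO.left :=
    (MorphismProperty.Over.forget FEt.prop.{u} ⊤ _ ⋙ Over.forget _).mapIso e
  refine ⟨⟨Z.left, Z.hom, el.inv ≫ pullback.fst Z.hom (f ∣_ O), Z.prop, ?_⟩⟩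
  refine (IsPullback.of_hasPullback Z.hom (f ∣_ O)).of_iso el (Iso.refl _) (Iso.refl _) (Iso.refl _)
    ?_ ?_ (by simp) (by simp)
  · simp only [Iso.refl_hom, Category.comp_id]
    exact (el.hom_inv_id_assoc _).symm
  · simp only [Iso.refl_hom, Category.comp_id]
    exact (Over.w e.hom.hom).symm

variable {f w}

theorem Lift.surjective {O : Y.Opens} (L : Lift f w O) : Surjective L.j :=
  MorphismProperty.of_isPullback (P := @Surjective) L.pb.flip (univHomeo_restrict f O).2.2

theorem Lift.univInj {O : Y.Opens} (L : Lift f w O) : UniversallyInjective L.j :=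
  MorphismProperty.of_isPullback (P := @UniversallyInjective) L.pb.flip (univHomeo_restrict f O).2.1

theorem Lift.big {V O : Y.Opens} (L : Lift f w V) (h : V ≤ O) :
    IsPullback L.j (w ∣_ (f ⁻¹ᵁ V) ≫ X.homOfLE (f.preimage_mono h)) (L.z ≫ Y.homOfLE h)
      (f ∣_ O) :=
  L.pb.paste_vert (isPullback_homOfLE f h).flip

theorem Lift.hom_ext {V O : Y.Opens} (L : Lift f w V) (L' : Lift f w O) {φ ψ : L.Z ⟶ L'.Z}
    (h : L.j ≫ φ = L.j ≫ ψ) (h' : φ ≫ L'.z = ψ ≫ L'.z) : φ = ψ := by
  have := L.surjective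
  have : Etale L'.z := L'.prop.2
  exact H95.TopInv.hom_ext L'.z L.j h h'

theorem Lift.exists_map {V O : Y.Opens} (L : Lift f w V) (L' : Lift f w O) (h : V ≤ O) :
    ∃ φ : L.Z ⟶ L'.Z, L.j ≫ φ = W.homOfLE (w.preimage_mono (f.preimage_mono h)) ≫ L'.j ∧
      φ ≫ L'.z = L.z ≫ Y.homOfLE h := by
  obtain ⟨_, _, _⟩ := univHomeo_restrict f O
  have : Etale L'.z := L'.prop.2
  have : Etale (Over.mk L'.z).hom := L'.prop.2
  let e := (L.big h).isoPullback
  have hsq : (W.homOfLE (w.preimage_mono (f.preimage_mono h)) ≫ L'.j) ≫ L'.z =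
      (e.hom ≫ pullback.snd (L.z ≫ Y.homOfLE h) (f ∣_ O)) ≫ f ∣_ O := by
    rw [Category.assoc, L'.pb.w, (L.big h).isoPullback_hom_snd]
    exact ((isPullback_homOfLE w (f.preimage_mono h)).w_assoc _).trans (Category.assoc _ _ _).symm
  let ψ : (Over.pullback (f ∣_ O)).obj (Over.mk (L.z ≫ Y.homOfLE h)) ⟶
      (Over.pullback (f ∣_ O)).obj (Over.mk L'.z) :=
    Over.homMk (pullback.lift (e.inv ≫ W.homOfLE (w.preimage_mono (f.preimage_mono h)) ≫ L'.j)
      (pullback.snd _ _) (by
        rw [← cancel_epi e.hom]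
        simp only [Category.assoc, Iso.hom_inv_id_assoc]
        exact (Category.assoc _ _ _).symm.trans (hsq.trans (Category.assoc _ _ _))))
      (pullback.lift_snd _ _ _)
  obtain ⟨φ, hφ⟩ := (S0076.result (f ∣_ O) (Over.mk L'.z) (Over.mk (L.z ≫ Y.homOfLE h))).2 ψ
  refine ⟨φ.left, ?_, Over.w φ⟩
  have h1 := congrArg (fun t : (Over.pullback (f ∣_ O)).obj (Over.mk (L.z ≫ Y.homOfLE h)) ⟶
      (Over.pullback (f ∣_ O)).obj (Over.mk L'.z) => t.left ≫ pullback.fst L'.z (f ∣_ O)) hφ
  have h2 : pullback.fst (L.z ≫ Y.homOfLE h) (f ∣_ O) ≫ φ.left =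
      e.inv ≫ W.homOfLE (w.preimage_mono (f.preimage_mono h)) ≫ L'.j :=
    ((pullback.lift_fst _ _ _).symm.trans h1).trans (pullback.lift_fst _ _ _)
  rw [← (L.big h).isoPullback_hom_fst, Category.assoc, h2, Iso.hom_inv_id_assoc]

theorem Lift.isPullback_map {V O : Y.Opens} (L : Lift f w V) (L' : Lift f w O) (h : V ≤ O)
    {φ : L.Z ⟶ L'.Z} (h1 : L.j ≫ φ = W.homOfLE (w.preimage_mono (f.preimage_mono h)) ≫ L'.j)
    (h2 : φ ≫ L'.z = L.z ≫ Y.homOfLE h) : IsPullback φ L.z L'.z (Y.homOfLE h) := by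
  obtain ⟨_, hu, hs⟩ := univHomeo_restrict f V
  have : Etale L'.z := L'.prop.2
  have : Etale L.z := L.prop.2
  let c : L.Z ⟶ pullback L'.z (Y.homOfLE h) := pullback.lift φ L.z h2
  have hc1 : c ≫ pullback.fst _ _ = φ := pullback.lift_fst _ _ _
  have hc2 : c ≫ pullback.snd _ _ = L.z := pullback.lift_snd _ _ _
  have : Etale (c ≫ pullback.snd L'.z (Y.homOfLE h)) := by rw [hc2]; infer_instance
  have : Etale c := Etale.of_comp c (pullback.snd L'.z (Y.homOfLE h))
  have hq : IsPullback (L.j ≫ c) (w ∣_ (f ⁻¹ᵁ V)) (pullback.snd L'.z (Y.homOfLE h)) (f ∣_ V) := by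
    refine IsPullback.of_right ?_ ?_ (IsPullback.of_hasPullback L'.z (Y.homOfLE h))
    · rw [Category.assoc, hc1, h1, ← (isPullback_homOfLE f h).w]
      exact (isPullback_homOfLE w (f.preimage_mono h)).paste_horiz L'.pb
    · rw [Category.assoc, hc2, L.pb.w]
  have : Surjective (L.j ≫ c) := MorphismProperty.of_isPullback (P := @Surjective) hq.flip hs
  have : UniversallyInjective (L.j ≫ c) :=
    MorphismProperty.of_isPullback (P := @UniversallyInjective) hq.flip hu
  have : Surjective c := Surjective.of_comp L.j c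
  have := L.surjective
  have : Surjective (pullback.diagonal (L.j ≫ c)) := (UniversallyInjective.iff_diagonal _).mp ‹_›
  have := S0076.surjective_diagonal_of_comp' L.j c
  have : IsOpenImmersion c :=
    Groth.Agent.Lib.Unram.EtaleMono.isOpenImmersion_of_surjective_diagonal c
  have : IsIso c := (isIso_iff_isOpenImmersion_and_surjective c).mpr ⟨inferInstance, inferInstance⟩
  exact IsPullback.of_iso_pullback ⟨h2⟩ (asIso c) hc1 hc2

section Data

variable (L : ∀ U : Y.AffineZariskiSite, Lift f w U.toOpens)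

/-- The transition maps. -/
noncomputable def trMap {V U : Y.AffineZariskiSite} (h : V ⟶ U) : (L V).Z ⟶ (L U).Z :=
  ((L V).exists_map (L U) (Scheme.AffineZariskiSite.toOpens_mono h.le)).choose

theorem j_trMap {V U : Y.AffineZariskiSite} (h : V ⟶ U) :
    (L V).j ≫ trMap L h = W.homOfLE (w.preimage_mono
      (f.preimage_mono (Scheme.AffineZariskiSite.toOpens_mono h.le))) ≫ (L U).j :=
  ((L V).exists_map (L U) (Scheme.AffineZariskiSite.toOpens_mono h.le)).choose_spec.1

theorem trMap_z {V U : Y.AffineZariskiSite} (h : V ⟶ U) :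
    trMap L h ≫ (L U).z = (L V).z ≫ Y.homOfLE (Scheme.AffineZariskiSite.toOpens_mono h.le) :=
  ((L V).exists_map (L U) (Scheme.AffineZariskiSite.toOpens_mono h.le)).choose_spec.2

theorem trMap_id (U : Y.AffineZariskiSite) : trMap L (𝟙 U) = 𝟙 _ :=
  Lift.hom_ext (L U) (L U) (by rw [j_trMap, Scheme.homOfLE_rfl, Category.id_comp, Category.comp_id])
    (by rw [trMap_z, Scheme.homOfLE_rfl, Category.id_comp, Category.comp_id])

theorem trMap_comp {U₁ U₂ U₃ : Y.AffineZariskiSite} (a : U₁ ⟶ U₂) (b : U₂ ⟶ U₃) :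
    trMap L (a ≫ b) = trMap L a ≫ trMap L b :=
  Lift.hom_ext (L U₁) (L U₃)
    (by rw [j_trMap, reassoc_of% j_trMap L a, j_trMap, Scheme.homOfLE_homOfLE_assoc])
    (by rw [trMap_z, Category.assoc, trMap_z, reassoc_of% trMap_z L a, Scheme.homOfLE_homOfLE])

/-- The gluing data. -/
noncomputable def glueData : (Scheme.AffineZariskiSite.directedCover Y).RelativeGluingData where
  functor :=
    { obj := fun U => (L U).Z
      map := fun h => trMap L h
      map_id := trMap_id L
      map_comp := trMap_comp L }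
  natTrans :=
    { app := fun U => (L U).z
      naturality := fun _ _ h => trMap_z L h }
  equifibered := fun {V U} h =>
    ((L V).isPullback_map (L U) (Scheme.AffineZariskiSite.toOpens_mono h.le) (j_trMap L h)
      (trMap_z L h))

instance : ((glueData L).functor ⋙ Scheme.forget).IsLocallyDirected :=
  Scheme.Cover.RelativeGluingData.instIsLocallyDirectedI₀CompFunctorForgetOfIsThin ..

include L in
theorem exists_glued : ∃ (Z : Scheme.{u}) (g : Z ⟶ Y) (j : W ⟶ Z),
    FEt.prop.{u} g ∧ IsPullback j w g f := by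
  have : IsZariskiLocalAtTarget (@Etale : MorphismProperty Scheme.{u}) :=
    HasRingHomProperty.instIsZariskiLocalAtTarget @Etale
  have hpb : ∀ U : Y.AffineZariskiSite,
      IsPullback (L U).z (colimit.ι (glueData L).functor U) U.toOpens.ι (glueData L).toBase :=
    fun U => (glueData L).isPullback_natTrans_ι_toBase U
  have hprop : ∀ (P : MorphismProperty Scheme.{u}) [IsZariskiLocalAtTarget P],
      (∀ U, P (L U).z) → P (glueData L).toBase := by
    intro P _ hP
    refine IsZariskiLocalAtTarget.of_openCover (Scheme.AffineZariskiSite.directedCover Y) fun U => ?_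
    change P (pullback.snd (glueData L).toBase U.toOpens.ι)
    rw [← (hpb U).flip.isoPullback_inv_snd]
    exact (MorphismProperty.cancel_left_of_respectsIso P _ _).mpr (hP U)
  have hfin : FEt.prop.{u} (glueData L).toBase :=
    ⟨hprop @IsFinite fun U => (L U).prop.1, hprop @Etale fun U => (L U).prop.2⟩
  -- the projection
  obtain ⟨j, hj⟩ := exists_glue_hom (w ≫ f) (glueData L).glued
    (fun U => (L U).j ≫ colimit.ι (glueData L).functor U) fun {U V} i => by
      rw [← colimit.w (glueData L).functor i]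
      exact (reassoc_of% (j_trMap L i).symm) _
  refine ⟨(glueData L).glued, (glueData L).toBase, j, hfin, IsPullback.flip ?_⟩
  exact isPullback_of_pieces f w (glueData L).toBase j (fun U => (L U).j) (fun U => (L U).z)
    (fun U => colimit.ι (glueData L).functor U) (fun U => (L U).pb) (fun U => hpb U) hj

end Data

end Global

/-- Finite etale covers descend along universal homeomorphisms. -/
theorem essSurj {X Y : Scheme.{u}} (f : X ⟶ Y) [IsIntegralHom f] [UniversallyInjective f]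
    [Surjective f] : (FEt.restrict f).EssSurj := by
  refine ⟨fun V => ?_⟩
  let w : V.left ⟶ X := V.hom
  have h : ∀ U : Y.AffineZariskiSite, Nonempty (Lift f w U.toOpens) := fun U =>
    exists_lift f w V.prop U.2
  obtain ⟨Z, g, j, hg, hpb⟩ := exists_glued fun U => (h U).some
  exact ⟨MorphismProperty.Over.mk ⊤ g hg,
    nonempty_iso_of_isPullback f V (MorphismProperty.Over.mk ⊤ g hg) j hpb⟩

end Groth.Agent.H80.UnivHomeo
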