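import Groth.Agent.H80.UnivHomeo.Steps
import Groth.Agent.H75.UH.Tower
import Mathlib.RingTheory.Smooth.NoetherianDescent

/-!
# Finite etale algebras descend along integral radicial maps with nil kernel
-/

set_option autoImplicit false
set_option backward.isDefEq.respectTransparency false

universe u

open CategoryTheory CategoryTheory.Limits AlgebraicGeometry Polynomial
open scoped TensorProduct

namespace Groth.Agent.H80.UnivHomeo

section Step

variable {S T : Type u} [CommRing S] [CommRing T] (φ : S →+* T) (b : T)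

/-- The conductor of `φ`. -/
def conductor : Ideal T where
  carrier := {t | ∀ v : T, ∃ s : S, φ s = t * v}
  zero_mem' v := ⟨0, by rw [map_zero, zero_mul]⟩
  add_mem' {x y} hx hy v := by
    obtain ⟨s, hs⟩ := hx v
    obtain ⟨s', hs'⟩ := hy v
    exact ⟨s + s', by rw [map_add, hs, hs', add_mul]⟩
  smul_mem' c x hx v := by
    obtain ⟨s, hs⟩ := hx (c * v)
    exact ⟨s, by rw [hs, smul_eq_mul]; ring⟩

theorem exists_of_mem_conductor {t : T} (h : t ∈ conductor φ) : ∃ s, φ s = t := by
  obtain ⟨s, hs⟩ := h 1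
  exact ⟨s, by rw [hs, mul_one]⟩

variable (hgen : ∀ t : T, ∃ P : S[X], P.eval₂ φ b = t)
include hgen

theorem induction_gen {P : T → Prop} (hadd : ∀ x y, P x → P y → P (x + y))
    (hmon : ∀ (n : ℕ) (a : S), P (φ a * b ^ n)) (t : T) : P t := by
  obtain ⟨Q, rfl⟩ := hgen t
  induction Q using Polynomial.induction_on' with
  | add p q hp hq => rw [eval₂_add]; exact hadd _ _ hp hq
  | monomial n a => rw [eval₂_monomial]; exact hmon n a

theorem isIntegral_of_gen (hb : φ.IsIntegralElem b) : φ.IsIntegral :=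
  induction_gen φ b hgen (P := φ.IsIntegralElem) (fun _ _ hx hy => RingHom.IsIntegralElem.add φ hx hy)
    fun n a => by
      let : Algebra S T := φ.toAlgebra
      exact (isIntegral_algebraMap (x := a)).mul (IsIntegral.pow hb n)

theorem esr_sqCube (hinj : Function.Injective φ) (h2 : ∃ s, φ s = b ^ 2) (h3 : ∃ s, φ s = b ^ 3) :
    ESR φ := by
  obtain ⟨s2, h2⟩ := h2
  obtain ⟨s3, h3⟩ := h3
  have hform : ∀ t : T, ∃ x y : S, t = φ x + φ y * b := by
    refine induction_gen φ b hgen ?_ ?_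
    · rintro x y ⟨x₁, x₂, rfl⟩ ⟨y₁, y₂, rfl⟩
      exact ⟨x₁ + y₁, x₂ + y₂, by rw [map_add, map_add]; ring⟩
    · intro n
      induction n using Nat.twoStepInduction with
      | zero => exact fun a => ⟨a, 0, by simp⟩
      | one => exact fun a => ⟨0, a, by simp⟩
      | more n ih _ =>
        intro a
        obtain ⟨x, y, hxy⟩ := ih a
        refine ⟨s2 * x + s3 * y, 0, ?_⟩
        rw [map_zero, zero_mul, add_zero, map_add, map_mul, map_mul, h2, h3, pow_add, ← mul_assoc,
          hxy]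
        ring
  have hb2 : b ^ 2 ∈ conductor φ := fun v => by
    obtain ⟨x, y, rfl⟩ := hform v
    exact ⟨s2 * x + s3 * y, by rw [map_add, map_mul, map_mul, h2, h3]; ring⟩
  have hint : φ.IsIntegral := isIntegral_of_gen φ b hgen
    ⟨X ^ 2 - C s2, monic_X_pow_sub_C s2 two_ne_zero, by simp [h2]⟩
  refine ESR.of_conductor φ hinj hint (conductor φ) (fun t => exists_of_mem_conductor φ) ?_
  refine ESR.of_nil ?_ (Ideal.span {Ideal.Quotient.mk (conductor φ) b}) ?_ fun y => ?_
  · rw [(RingHom.injective_iff_ker_eq_bot _).mp Ideal.quotientMap_injective]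
    exact bot_le
  · rw [Ideal.span_singleton_le_iff_mem, mem_nilradical]
    exact ⟨2, by rw [← map_pow, Ideal.Quotient.eq_zero_iff_mem]; exact hb2⟩
  · obtain ⟨y, rfl⟩ := Ideal.Quotient.mk_surjective y
    obtain ⟨x, z, rfl⟩ := hform y
    refine ⟨Ideal.Quotient.mk _ x, Ideal.mem_span_singleton.mpr ⟨Ideal.Quotient.mk _ (φ z), ?_⟩⟩
    rw [Ideal.quotientMap_mk, map_add, add_sub_cancel_left, ← map_mul, mul_comm]

theorem esr_prime {l : ℕ} (hl : l.Prime) (hinj : Function.Injective φ)
    (h1 : ∃ s, φ s = (l : T) * b) (h2 : ∃ s, φ s = b ^ l) : ESR φ := by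
  obtain ⟨c, hc⟩ := h1
  obtain ⟨d, hd⟩ := h2
  have : Fact l.Prime := ⟨hl⟩
  have hmon : ∀ n : ℕ, ∃ s, φ s = (l : T) ^ l * b ^ n := by
    intro n
    induction n using Nat.strong_induction_on with
    | _ n ih =>
      rcases lt_or_ge n l with hn | hn
      · refine ⟨(l : S) ^ (l - n) * c ^ n, ?_⟩
        rw [map_mul, map_pow, map_pow, map_natCast, hc, mul_pow, ← mul_assoc, ← pow_add,
          Nat.sub_add_cancel hn.le]
      · obtain ⟨s, hs⟩ := ih (n - l) (by have := hl.pos; omega)
        refine ⟨s * d, ?_⟩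
        rw [map_mul, hs, hd, mul_assoc, ← pow_add, Nat.sub_add_cancel hn]
  have hll : (l : T) ^ l ∈ conductor φ :=
    induction_gen φ b hgen (P := fun v => ∃ s, φ s = (l : T) ^ l * v)
      (fun x y ⟨s, hs⟩ ⟨s', hs'⟩ => ⟨s + s', by rw [map_add, hs, hs', mul_add]⟩)
      fun n a => by
        obtain ⟨s, hs⟩ := hmon n
        exact ⟨a * s, by rw [map_mul, hs]; ring⟩
  have hint : φ.IsIntegral := isIntegral_of_gen φ b hgen
    ⟨X ^ l - C d, monic_X_pow_sub_C d hl.ne_zero, by simp [hd]⟩
  refine ESR.of_conductor φ hinj hint (conductor φ) (fun t => exists_of_mem_conductor φ) ?_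
  have hlT : IsNilpotent (l : T ⧸ conductor φ) :=
    ⟨l, by rw [← map_natCast (Ideal.Quotient.mk (conductor φ)), ← map_pow,
      Ideal.Quotient.eq_zero_iff_mem]; exact hll⟩
  have hqi : Function.Injective (Ideal.quotientMap (conductor φ) φ le_rfl) :=
    Ideal.quotientMap_injective
  refine ESR.of_frobenius l ?_ ?_ fun y => ?_
  · rw [(RingHom.injective_iff_ker_eq_bot _).mp hqi]
    exact bot_le
  · obtain ⟨n, hn⟩ := hlT
    exact ⟨n, hqi (by rw [map_pow, map_natCast, hn, map_zero])⟩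
  · obtain ⟨y, rfl⟩ := Ideal.Quotient.mk_surjective y
    refine induction_gen φ b hgen
      (P := fun y => ∃ x : S ⧸ (conductor φ).comap φ, IsNilpotent
        (Ideal.Quotient.mk (conductor φ) y ^ l - Ideal.quotientMap (conductor φ) φ le_rfl x))
      ?_ ?_ y
    · rintro u v ⟨x, hx⟩ ⟨x', hx'⟩
      obtain ⟨r, hr⟩ := exists_add_pow_prime_eq hl (Ideal.Quotient.mk (conductor φ) u)
        (Ideal.Quotient.mk (conductor φ) v)
      refine ⟨x + x', ?_⟩
      rw [map_add, map_add, hr, show ∀ a b c p q : T ⧸ conductor φ,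
        a + b + c - (p + q) = (a - p) + (b - q) + c from fun _ _ _ _ _ => by ring]
      refine (Commute.all _ _).isNilpotent_add ((Commute.all _ _).isNilpotent_add hx hx') ?_
      rw [mul_assoc, mul_assoc]
      exact (Commute.all _ _).isNilpotent_mul_right hlT
    · intro n a
      refine ⟨Ideal.Quotient.mk _ (a ^ l * d ^ n), ?_⟩
      rw [Ideal.quotientMap_mk, ← map_pow, ← map_sub]
      rw [show (φ a * b ^ n) ^ l - φ (a ^ l * d ^ n) = 0 by
        rw [map_mul, map_pow, map_pow, hd, mul_pow, ← pow_mul, ← pow_mul, mul_comm n l, sub_self],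
        map_zero]
      exact IsNilpotent.zero

end Step

variable {A B : Type u} [CommRing A] [CommRing B] [Algebra A B]

open Groth.Agent.H75.UH

theorem eval_val {S T : Subalgebra A B} (h : S ≤ T) (β : T) (P : S[X]) :
    ((P.eval₂ (Subalgebra.inclusion h).toRingHom β : T) : B) = Polynomial.aeval (β : B) P :=
  Polynomial.hom_eval₂ P (Subalgebra.inclusion h).toRingHom T.val.toRingHom β

theorem coe_natCast_mul (U : Subalgebra A B) (l : ℕ) (x : U) :
    (((l : U) * x : U) : B) = (l : B) * x := by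
  exact congrArg (· * (x : B)) (map_natCast U.val l)

theorem esr_step {S T : Subalgebra A B} (h : S ≤ T) {b : B} (hbT : b ∈ T)
    (hT : ∀ t ∈ T, ∃ P : S[X], Polynomial.aeval b P = t) (hb : PStep S b) :
    ESR (Subalgebra.inclusion h).toRingHom := by
  have hgen : ∀ t : T, ∃ P : S[X],
      P.eval₂ (Subalgebra.inclusion h).toRingHom ⟨b, hbT⟩ = t := fun t => by
    obtain ⟨P, hP⟩ := hT t.1 t.2
    exact ⟨P, Subtype.ext ((eval_val h _ P).trans hP)⟩
  rcases hb with ⟨h2, h3⟩ | ⟨l, hl, h1, h2⟩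
  · exact esr_sqCube _ _ hgen (Subalgebra.inclusion_injective h) ⟨⟨_, h2⟩, Subtype.ext rfl⟩
      ⟨⟨_, h3⟩, Subtype.ext rfl⟩
  · have key : (Subalgebra.inclusion h).toRingHom ⟨_, h1⟩ = (Nat.cast l : T) * ⟨b, hbT⟩ :=
      Subtype.ext ((coe_natCast_mul T l ⟨b, hbT⟩).symm)
    exact esr_prime _ _ hgen hl (Subalgebra.inclusion_injective h) ⟨⟨_, h1⟩, key⟩
      ⟨⟨_, h2⟩, Subtype.ext (SubmonoidClass.coe_pow (⟨b, hbT⟩ : T) l).symm⟩

theorem exists_aeval (S : Subalgebra A B) (b : B) {t : B} (ht : t ∈ S ⊔ Algebra.adjoin A {b}) :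
    ∃ P : S[X], Polynomial.aeval b P = t := by
  have hle : S ⊔ Algebra.adjoin A {b} ≤ (Algebra.adjoin S {b}).restrictScalars A :=
    sup_le (fun z hz => Subalgebra.algebraMap_mem (Algebra.adjoin S {b}) ⟨z, hz⟩)
      (Algebra.adjoin_le fun z hz => by
        rw [Set.mem_singleton_iff.mp hz]
        exact Algebra.self_mem_adjoin_singleton S b)
  have ht' := hle ht
  rw [Subalgebra.mem_restrictScalars, Algebra.adjoin_singleton_eq_range_aeval] at ht'
  exact ht'

theorem esr_reach (hker : RingHom.ker (algebraMap A B) ≤ nilradical A) {S : Subalgebra A B}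
    (h : Reach PStep S) : ESR (algebraMap A S) := by
  induction h with
  | bot =>
    refine ESR.of_surjective (fun x => ?_) fun x hx => hker ?_
    · obtain ⟨a, ha⟩ := Algebra.mem_bot.mp x.2
      exact ⟨a, Subtype.ext ha⟩
    · exact congrArg Subtype.val hx
  | @step S b hS hb ih =>
    have hle : S ≤ S ⊔ Algebra.adjoin A {b} := le_sup_left
    have hbT : b ∈ S ⊔ Algebra.adjoin A {b} := le_sup_right (a := S) (Algebra.subset_adjoin rfl)
    have h2 := ih.comp (esr_step hle hbT (fun t ht => exists_aeval S b ht) hb)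
    have e : (Subalgebra.inclusion hle).toRingHom.comp (algebraMap A S) = algebraMap A _ :=
      RingHom.ext fun _ => Subtype.ext rfl
    rw [← e]
    exact h2

/-- Finite etale algebras descend to some tower. -/
theorem exists_tower (hgood : good A B = ⊤) (W : FEt.Cat (Spec (CommRingCat.of B))) :
    ∃ T : Subalgebra A B, Reach PStep T ∧ ∃ Z : FEt.Cat (Spec (CommRingCat.of T)),
      Nonempty ((FEt.restrict (Spec.map (CommRingCat.ofHom (algebraMap T B)))).obj Z ≅ W) := by
  classical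
  let w : W.left ⟶ Spec (CommRingCat.of B) := W.hom
  have : IsFinite w := W.prop.1
  have : Etale w := W.prop.2
  have : IsAffine W.left := isAffine_of_isAffineHom w
  let ψ : B →+* Γ(W.left, ⊤) := ((Scheme.ΓSpecIso (CommRingCat.of B)).inv ≫ w.appTop).hom
  let : Algebra B Γ(W.left, ⊤) := ψ.toAlgebra
  have hi := ConcreteCategory.bijective_of_isIso (Scheme.ΓSpecIso (CommRingCat.of B)).inv
  have : Module.Finite B Γ(W.left, ⊤) :=
    (IsFinite.finite_app w ⊤ (isAffineOpen_top _)).comp (RingHom.Finite.of_surjective _ hi.2)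
  have : Algebra.Etale B Γ(W.left, ⊤) :=
    RingHom.Etale.stableUnderComposition _ _ (RingHom.Etale.of_bijective hi)
      (HasRingHomProperty.appTop (P := @Etale) w inferInstance)
  obtain ⟨S₀, C₀, _, _, hfg, het, ⟨e⟩⟩ :=
    Algebra.Etale.exists_subalgebra_fg A B Γ(W.left, ⊤)
  obtain ⟨G₀, hG₀⟩ := hfg
  obtain ⟨G, hG⟩ := (inferInstance : Algebra.FiniteType S₀ C₀)
  have hint : ∀ g : C₀, IsIntegral B ((1 : B) ⊗ₜ[S₀] g) := fun g => by
    have := (Algebra.IsIntegral.isIntegral (R := B) (e.symm ((1 : B) ⊗ₜ[S₀] g))).map e.toAlgHom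
    simpa using this
  choose P hP hPg using hint
  obtain ⟨T, hT, hE⟩ := exists_reach_pStep hgood (G₀ ∪ G.biUnion fun g => (P g).coeffs)
  have hle : S₀ ≤ T := hG₀ ▸ Algebra.adjoin_le fun z hz =>
    hE (Finset.mem_coe.mpr (Finset.mem_union_left _ hz))
  let : Algebra S₀ T := (Subalgebra.inclusion hle).toRingHom.toAlgebra
  have : IsScalarTower S₀ T B := .of_algebraMap_eq fun _ => rfl
  let D := T ⊗[S₀] C₀
  let j : D →ₐ[T] B ⊗[S₀] C₀ := Algebra.TensorProduct.map (Algebra.ofId T B) (AlgHom.id S₀ C₀)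
  have hj : Function.Injective j := by
    have h := Module.Flat.rTensor_preserves_injective_linearMap (M := C₀)
      ((Algebra.ofId T B).restrictScalars S₀).toLinearMap Subtype.val_injective
    exact h
  have hDint : ∀ c : C₀, IsIntegral T ((1 : T) ⊗ₜ[S₀] c) := by
    intro c
    have hc : c ∈ Algebra.adjoin S₀ (G : Set C₀) := hG ▸ Algebra.mem_top
    induction hc using Algebra.adjoin_induction with
    | mem g hg =>
      have hlift : P g ∈ Polynomial.lifts (algebraMap T B) := by
        refine (Polynomial.lifts_iff_coeff_lifts _).mpr fun k => ?_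
        by_cases h0 : (P g).coeff k = 0
        · exact ⟨0, by rw [map_zero, h0]⟩
        · exact ⟨⟨_, hE (Finset.mem_coe.mpr (Finset.mem_union_right _
            (Finset.mem_biUnion.mpr ⟨g, hg, Polynomial.coeff_mem_coeffs h0⟩)))⟩, rfl⟩
      obtain ⟨Q, hQ, -, hQm⟩ := Polynomial.lifts_and_natDegree_eq_and_monic hlift (hP g)
      refine ⟨Q, hQm, hj ?_⟩
      rw [← Polynomial.aeval_def, map_zero, ← Polynomial.aeval_algHom_apply,
        ← Polynomial.aeval_map_algebraMap B, hQ]
      have hj1 : j ((1 : T) ⊗ₜ[S₀] g) = (1 : B) ⊗ₜ[S₀] g := by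
        change (algebraMap T B 1) ⊗ₜ[S₀] g = _
        rw [map_one]
      rw [hj1]
      exact hPg g
    | algebraMap r =>
      rw [Algebra.algebraMap_eq_smul_one, TensorProduct.tmul_smul, ← algebraMap_smul T r,
        ← Algebra.TensorProduct.one_def, ← Algebra.algebraMap_eq_smul_one]
      exact isIntegral_algebraMap
    | add x y _ _ hx hy => rw [TensorProduct.tmul_add]; exact hx.add hy
    | mul x y _ _ hx hy =>
      rw [show (1 : T) ⊗ₜ[S₀] (x * y) = (1 ⊗ₜ x) * (1 ⊗ₜ y) by simp]
      exact hx.mul hy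
  have : Algebra.IsIntegral T D := ⟨fun z => by
    induction z using TensorProduct.induction_on with
    | zero => exact isIntegral_zero
    | tmul t c =>
      rw [show t ⊗ₜ[S₀] c = t • ((1 : T) ⊗ₜ[S₀] c) by rw [TensorProduct.smul_tmul', smul_eq_mul, mul_one]]
      exact (hDint c).smul t
    | add x y hx hy => exact hx.add hy⟩
  have : Algebra.Etale T D := inferInstance
  have : Module.Finite T D := Algebra.IsIntegral.finite
  let e' : B ⊗[T] D ≃ₐ[B] Γ(W.left, ⊤) :=
    (Algebra.TensorProduct.cancelBaseChange S₀ T B B C₀).trans e.symm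
  have hp : FEt.prop.{u} (Spec.map (CommRingCat.ofHom (algebraMap T D))) :=
    ⟨IsFinite.SpecMap_iff _ |>.mpr (RingHom.finite_algebraMap.mpr inferInstance),
      (HasRingHomProperty.Spec_iff (P := @Etale)).mpr (RingHom.etale_algebraMap.mpr inferInstance)⟩
  have hfac : w = W.left.isoSpec.hom ≫ Spec.map (CommRingCat.ofHom ψ) := by
    rw [Scheme.isoSpec_hom, CommRingCat.ofHom_hom, Spec.map_comp,
      ← Scheme.toSpecΓ_naturality_assoc, ← SpecMap_ΓSpecIso_hom, ← Spec.map_comp,
      Iso.inv_hom_id, Spec.map_id]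
    exact (Category.comp_id w).symm
  let g : Spec (CommRingCat.of B) ⟶ Spec (CommRingCat.of T) :=
    Spec.map (CommRingCat.ofHom (algebraMap T B))
  let i : pullback (Spec.map (CommRingCat.ofHom (algebraMap T D))) g ≅ W.left :=
    pullbackSymmetry _ _ ≪≫ pullbackSpecIso T B D ≪≫
      Scheme.Spec.mapIso e'.symm.toRingEquiv.toCommRingCatIso.op ≪≫ W.left.isoSpec.symm
  refine ⟨T, hT, MorphismProperty.Over.mk ⊤ _ hp, ⟨MorphismProperty.Over.isoMk i ?_⟩⟩
  change i.hom ≫ w = pullback.snd (Spec.map (CommRingCat.ofHom (algebraMap T D))) g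
  rw [hfac, ← pullbackSymmetry_hom_comp_fst]
  simp only [i, Iso.trans_hom, Iso.symm_hom, Category.assoc, Iso.inv_hom_id_assoc]
  congr 1
  rw [show pullback.fst g (Spec.map (CommRingCat.ofHom (algebraMap T D))) =
    pullback.fst (Spec.map (CommRingCat.ofHom (algebraMap T B))) _ from rfl,
    ← pullbackSpecIso_hom_fst]
  congr 1
  change Spec.map _ ≫ Spec.map _ = Spec.map _
  rw [← Spec.map_comp]
  congr 1
  ext x
  exact e'.symm.commutes x

/-- Finite etale algebras descend along integral radicial maps with nil kernel. -/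
theorem esr_of_univHomeo (h1 : (algebraMap A B).IsIntegral) (h2 : Radicial (algebraMap A B))
    (h3 : RingHom.ker (algebraMap A B) ≤ nilradical A) : ESR (algebraMap A B) := by
  refine ⟨fun W => ?_⟩
  obtain ⟨T, hT, Z, ⟨e⟩⟩ := exists_tower ((good_eq_top_iff A B).mpr ⟨h1, h2⟩) W
  obtain ⟨U, ⟨e'⟩⟩ := (esr_reach h3 hT).mem_essImage Z
  refine ⟨U, ⟨eqToIso ?_ ≪≫ (restrictComp _ _).app U ≪≫
    (FEt.restrict (Spec.map (CommRingCat.ofHom (algebraMap T B)))).mapIso e' ≪≫ e⟩⟩
  rw [← Spec.map_comp, ← CommRingCat.ofHom_comp]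
  congr 4

end Groth.Agent.H80.UnivHomeo
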